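import Cfsg.Agent.Lib.ZStar.CyclicIntersections.Basic
import Cfsg.Agent.Lib.Coprime.Generation
import Cfsg.Agent.Lib.Transfer.Fusion
import Cfsg.Agent.Lib.ZStar.Main

/-!
The reduced configuration: a nonsolvable group without solvable normal subgroups in which distinct
Sylow 2-subgroups meet cyclically. Central involutions are moved by the Sylow normalizer, and
centralizers of involutions in two Sylow subgroups are nonsolvable.
-/

set_option autoImplicit false
set_option linter.style.haveILetI false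

namespace Cfsg.Agent.ZStar.CyclicIntersections

open Cfsg Subgroup
open scoped Pointwise

variable {G : Type*} [Group G]

theorem mem_cent {a x : G} : x ∈ centralizer ({a} : Set G) ↔ Commute x a := by
  rw [mem_centralizer_iff]
  constructor
  · exact fun h => (h a rfl).symm
  · intro h b hb
    rw [Set.mem_singleton_iff.mp hb]
    exact h.eq.symm

theorem conj_mem_smul (g : G) {S : Sylow 2 G} {x : G} (hx : x ∈ (S : Subgroup G)) :
    g * x * g⁻¹ ∈ ((g • S : Sylow 2 G) : Subgroup G) := by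
  refine Transfer.Fusion.mem_smul_sylow_iff.mpr ?_
  show g⁻¹ * (g * x * g⁻¹) * g ∈ (S : Subgroup G)
  rwa [show g⁻¹ * (g * x * g⁻¹) * g = x by group]

theorem mem_smul {g x : G} {S : Sylow 2 G} :
    x ∈ ((g • S : Sylow 2 G) : Subgroup G) ↔ g⁻¹ * x * g ∈ (S : Subgroup G) :=
  Transfer.Fusion.mem_smul_sylow_iff

theorem conj_mem_of_mem_normalizer {H : Subgroup G} {n x : G} (hn : n ∈ normalizer (H : Set G))
    (hx : x ∈ H) : n⁻¹ * x * n ∈ H := by
  have := (mem_normalizer_iff.mp (inv_mem hn) x).mp hx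
  simpa using this

/-- A central involution of a normal subgroup is carried to another by the normalizer. -/
theorem commute_conj_of_normalizer {S : Subgroup G} {z n : G} (hn : n ∈ normalizer (S : Set G))
    (hzc : ∀ s ∈ S, Commute z s) {s : G} (hs : s ∈ S) : Commute (n * z * n⁻¹) s := by
  have h := (hzc _ (conj_mem_of_mem_normalizer hn hs))
  have := h.map (MulAut.conj n).toMonoidHom
  simpa [mul_assoc] using this

/-- The group `{1, u, v, uv}` generated by two commuting involutions. -/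
def four (u v : G) (hu : u * u = 1) (hv : v * v = 1) (h : Commute u v) : Subgroup G where
  carrier := {1, u, v, u * v}
  one_mem' := by simp
  mul_mem' := by
    have e1 : v * u = u * v := h.eq.symm
    have e2 : u * (u * v) = v := by rw [← mul_assoc, hu, one_mul]
    have e3 : v * (u * v) = u := by rw [← mul_assoc, e1, mul_assoc, hv, mul_one]
    have e4 : u * v * u = v := by rw [mul_assoc, e1, e2]
    have e5 : u * v * v = u := by rw [mul_assoc, hv, mul_one]
    have e6 : u * v * (u * v) = 1 := by rw [← mul_assoc, e4, hv]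
    intro a b ha hb
    simp only [Set.mem_insert_iff, Set.mem_singleton_iff] at ha hb ⊢
    rcases ha with rfl | rfl | rfl | rfl <;> rcases hb with rfl | rfl | rfl | rfl <;>
      simp [hu, hv, e1, e2, e3, e4, e5, e6]
  inv_mem' := by
    have hu' : u⁻¹ = u := inv_eq_of_mul_eq_one_left hu
    have hv' : v⁻¹ = v := inv_eq_of_mul_eq_one_left hv
    intro a ha
    simp only [Set.mem_insert_iff, Set.mem_singleton_iff] at ha ⊢
    rcases ha with rfl | rfl | rfl | rfl <;> simp [hu', hv', h.eq]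

theorem mem_four {u v : G} {hu : u * u = 1} {hv : v * v = 1} {h : Commute u v} {a : G} :
    a ∈ four u v hu hv h ↔ a = 1 ∨ a = u ∨ a = v ∨ a = u * v :=
  Iff.rfl

theorem mul_self_of_orderOf {u : G} (hu : orderOf u = 2) : u * u = 1 :=
  Involutions.Basic.inv_sq_one hu

theorem four_sq {u v : G} {hu : u * u = 1} {hv : v * v = 1} {h : Commute u v} {a : G}
    (ha : a ∈ four u v hu hv h) : a * a = 1 := by
  rcases mem_four.mp ha with rfl | rfl | rfl | rfl
  · exact one_mul 1
  · exact hu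
  · exact hv
  · rw [← mul_assoc, mul_assoc u v u, ← h.eq, ← mul_assoc u u v, hu, one_mul, hv]

theorem isPGroup_four {u v : G} {hu : u * u = 1} {hv : v * v = 1} {h : Commute u v} :
    IsPGroup 2 (four u v hu hv h) :=
  fun a => ⟨1, Subtype.ext (by simpa [pow_two] using four_sq a.2)⟩

/-- Two commuting involutions lie in a common Sylow 2-subgroup. -/
theorem exists_sylow_pair {u v : G} (hu : orderOf u = 2) (hv : orderOf v = 2)
    (h : Commute u v) : ∃ A : Sylow 2 G, u ∈ (A : Subgroup G) ∧ v ∈ (A : Subgroup G) := by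
  obtain ⟨A, hA⟩ := (isPGroup_four (hu := mul_self_of_orderOf hu) (hv := mul_self_of_orderOf hv)
    (h := h)).exists_le_sylow
  exact ⟨A, hA (mem_four.mpr (.inr (.inl rfl))), hA (mem_four.mpr (.inr (.inr (.inl rfl))))⟩

theorem exists_sylow_mem {u : G} (hu : orderOf u = 2) :
    ∃ A : Sylow 2 G, u ∈ (A : Subgroup G) :=
  let ⟨A, h, _⟩ := exists_sylow_pair hu hu (Commute.refl u)
  ⟨A, h⟩

/-- A nontrivial 2-subgroup has an involution centralizing it. -/
theorem exists_central_involution [Finite G] {Y : Subgroup G} (hY : IsPGroup 2 Y) (hne : Y ≠ ⊥) :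
    ∃ w ∈ Y, orderOf w = 2 ∧ ∀ y ∈ Y, Commute w y := by
  haveI := Fact.mk Nat.prime_two
  haveI := (nontrivial_iff_ne_bot Y).mpr hne
  haveI := hY.center_nontrivial
  obtain ⟨k, hk, hcard⟩ := (hY.to_subgroup (center Y)).nontrivial_iff_card.mp inferInstance
  obtain ⟨w, hw⟩ := exists_prime_orderOf_dvd_card' (G := center Y) 2
    (hcard ▸ dvd_pow_self 2 (Nat.pos_iff_ne_zero.mp hk))
  refine ⟨((w : Y) : G), (w : Y).2, ?_, fun y hy => ?_⟩
  · rw [Subgroup.orderOf_coe, Subgroup.orderOf_coe, hw]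
  · have h := Subgroup.mem_center_iff.mp w.2 ⟨y, hy⟩
    exact (congrArg Subtype.val h).symm

/-- Schur–Zassenhaus in the normalizer of a Sylow 2-subgroup. -/
theorem exists_complement [Finite G] (S : Sylow 2 G) :
    ∃ R : Subgroup G, R ≤ normalizer ((S : Subgroup G) : Set G) ∧ Odd (Nat.card R) ∧
      normalizer ((S : Subgroup G) : Set G) ≤ (S : Subgroup G) ⊔ R := by
  haveI := Fact.mk Nat.prime_two
  set N := normalizer ((S : Subgroup G) : Set G) with hN
  let S₁ : Sylow 2 N := S.subtype le_normalizer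
  haveI : (S₁ : Subgroup N).Normal := normal_subgroupOf_of_le_normalizer le_rfl
  obtain ⟨B, hB⟩ := exists_right_complement'_of_coprime S₁.card_coprime_index
  refine ⟨B.map N.subtype, map_subtype_le B, ?_, ?_⟩
  · rw [card_subtype, ← hB.symm.index_eq_card, Nat.odd_iff, ← Nat.two_dvd_ne_zero]
    exact S₁.not_dvd_index
  · intro n hn
    have h : (⟨n, hn⟩ : N) ∈ (S₁ : Subgroup N) ⊔ B := hB.sup_eq_top ▸ mem_top _
    have h2 := mem_map_of_mem N.subtype h
    rw [Subgroup.map_sup] at h2
    exact sup_le_sup_right (map_comap_le _ _) _ h2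

/-- Elements of a subgroup generating a 2-group are conjugate into a given Sylow subgroup. -/
theorem exists_conj_mem [Finite G] {K : Subgroup G} (A : Sylow 2 K) {D : Subgroup G}
    (hD : IsPGroup 2 D) (hDK : D ≤ K) :
    ∃ c ∈ K, ∀ d ∈ D, c⁻¹ * d * c ∈ (A : Subgroup K).map K.subtype := by
  haveI := Fact.mk Nat.prime_two
  obtain ⟨B, hB⟩ := (hD.comap_subtype (K := K)).exists_le_sylow
  obtain ⟨c, rfl⟩ := MulAction.exists_smul_eq K A B
  refine ⟨c, c.2, fun d hd => ?_⟩
  have h : (⟨d, hDK hd⟩ : K) ∈ ((c • A : Sylow 2 K) : Subgroup K) := hB hd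
  exact ⟨c⁻¹ * ⟨d, hDK hd⟩ * c, mem_smul.mp h, by simp⟩

/-- `G` is nonsolvable, without solvable normal subgroups, with cyclic Sylow intersections. -/
structure Reduced (G : Type*) [Group G] : Prop where
  nonsolvable : ¬ Group.IsSolvable G
  cycInt : CycInt G
  noSolv : ∀ N : Subgroup G, N.Normal → Group.IsSolvable N → N = ⊥

variable [Finite G]

theorem Reduced.center_eq_bot (hG : Reduced G) : center G = ⊥ :=
  hG.noSolv _ inferInstance (Group.isSolvable_of_comm fun a b => Subtype.ext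
    (Subgroup.mem_center_iff.mp b.2 a))

theorem Reduced.oddCore_eq_bot (hG : Reduced G) : oddCore G = ⊥ :=
  hG.noSolv _ inferInstance isSolvable_oddCore

theorem Reduced.centralizer_ne_top (hG : Reduced G) {i : G} (hi : i ≠ 1) :
    centralizer ({i} : Set G) ≠ ⊤ := by
  intro h
  have hic : i ∈ center G := Subgroup.mem_center_iff.mpr fun g =>
    (mem_cent.mp (h ▸ mem_top g : g ∈ centralizer ({i} : Set G))).eq
  rw [hG.center_eq_bot, mem_bot] at hic
  exact hi hic

theorem Reduced.sylow_ne_bot (hG : Reduced G) (S : Sylow 2 G) : (S : Subgroup G) ≠ ⊥ := by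
  haveI := Fact.mk Nat.prime_two
  intro h
  refine hG.nonsolvable (S0205.result ?_)
  rw [Nat.odd_iff, ← Nat.two_dvd_ne_zero, ← index_bot, ← h]
  exact S.not_dvd_index

/-- A conjugate of a central involution inside the Sylow subgroup is conjugate in the
normalizer. -/
theorem CycInt.exists_normalizer_conj (hC : CycInt G) (S : Sylow 2 G) {z g : G}
    (hz : orderOf z = 2) (hzS : z ∈ (S : Subgroup G)) (hzc : ∀ s ∈ (S : Subgroup G), Commute z s)
    (hgS : g * z * g⁻¹ ∈ (S : Subgroup G)) :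
    ∃ n ∈ normalizer ((S : Subgroup G) : Set G), n * z * n⁻¹ = g * z * g⁻¹ := by
  haveI := Fact.mk Nat.prime_two
  set u := g * z * g⁻¹ with hu
  by_cases huz : u = z
  · exact ⟨1, one_mem _, by rw [inv_one, mul_one, one_mul, huz]⟩
  set K := centralizer ({u} : Set G) with hK
  have hgK : ((g • S : Sylow 2 G) : Subgroup G) ≤ K := by
    intro x hx
    rw [hK, mem_cent]
    have := (hzc _ (mem_smul.mp hx)).symm.map (MulAut.conj g).toMonoidHom
    simpa [hu, mul_assoc] using this
  obtain ⟨c, hcK, hc⟩ := exists_conj_mem ((g • S).subtype hgK)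
    (D := (S : Subgroup G) ⊓ K) (S.isPGroup'.to_le inf_le_left) inf_le_right
  have hcu : c * u * c⁻¹ = u := by
    rw [(mem_cent.mp hcK).eq, mul_assoc, mul_inv_cancel, mul_one]
  have hmem : ∀ d ∈ (S : Subgroup G) ⊓ K,
      d ∈ (((c * g) • S : Sylow 2 G) : Subgroup G) := by
    intro d hd
    obtain ⟨y, hy, hyd⟩ := hc d hd
    have h : c⁻¹ * d * c ∈ ((g • S : Sylow 2 G) : Subgroup G) := hyd ▸ hy
    rw [mem_smul] at h ⊢
    simpa [mul_assoc] using h
  have huK : u ∈ (S : Subgroup G) ⊓ K := ⟨hgS, mem_cent.mpr (Commute.refl u)⟩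
  have hzK : z ∈ (S : Subgroup G) ⊓ K := ⟨hzS, mem_cent.mpr (hzc u hgS)⟩
  have hT : (c * g) • S = S := hC.eq_of_two (hmem z hzK) hzS (hmem u huK) hgS hz
    (by rw [hu, Involutions.Basic.orderOf_conj, hz]) (Ne.symm huz)
  refine ⟨c * g, Sylow.smul_eq_iff_mem_normalizer.mp hT, ?_⟩
  conv_rhs => rw [← hcu, hu]
  group

/-- A central involution of a Sylow subgroup is moved by its normalizer. -/
theorem Reduced.exists_moved (hG : Reduced G) (S : Sylow 2 G) {z : G} (hz : orderOf z = 2)
    (hzS : z ∈ (S : Subgroup G)) (hzc : ∀ s ∈ (S : Subgroup G), Commute z s) :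
    ∃ n ∈ normalizer ((S : Subgroup G) : Set G), n * z * n⁻¹ ≠ z := by
  haveI := Fact.mk Nat.prime_two
  by_contra h
  push Not at h
  have hiso : Cfsg.IsIsolatedInvolution z := by
    refine ⟨hz, fun g hg => ?_⟩
    have hSK : (S : Subgroup G) ≤ centralizer ({z} : Set G) := fun s hs =>
      mem_cent.mpr (hzc s hs).symm
    have hD : IsPGroup 2 (zpowers (g * z * g⁻¹)) := IsPGroup.of_card (n := 1)
      (by rw [Nat.card_zpowers, Involutions.Basic.orderOf_conj, hz, pow_one])
    obtain ⟨c, hcK, hc⟩ := exists_conj_mem (S.subtype hSK) hD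
      (by rw [zpowers_le, mem_cent]; exact hg.symm)
    obtain ⟨y, hy, hyd⟩ := hc _ (mem_zpowers _)
    have hmem : c⁻¹ * (g * z * g⁻¹) * c ∈ (S : Subgroup G) := hyd ▸ hy
    have hmem' : (c⁻¹ * g) * z * (c⁻¹ * g)⁻¹ ∈ (S : Subgroup G) := by
      simpa [mul_assoc] using hmem
    obtain ⟨n, hn, hnz⟩ := hG.cycInt.exists_normalizer_conj S hz hzS hzc hmem'
    rw [h n hn] at hnz
    calc g * z * g⁻¹ = c * (c⁻¹ * g * z * (c⁻¹ * g)⁻¹) * c⁻¹ := by group
      _ = c * z * c⁻¹ := by rw [← hnz]
      _ = z := by rw [(mem_cent.mp hcK).eq, mul_assoc, mul_inv_cancel, mul_one]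
  have hc := ZStar.Main.mem_center_of_isolated hG.oddCore_eq_bot hiso
  rw [hG.center_eq_bot, mem_bot] at hc
  simp [hc] at hz

theorem Reduced.exists_two_central (hG : Reduced G) (S : Sylow 2 G) :
    ∃ z z' : G, z ∈ (S : Subgroup G) ∧ z' ∈ (S : Subgroup G) ∧ orderOf z = 2 ∧ orderOf z' = 2 ∧
      z ≠ z' ∧ (∀ s ∈ (S : Subgroup G), Commute z s) ∧
      ∀ s ∈ (S : Subgroup G), Commute z' s := by
  obtain ⟨z, hzS, hz, hzc⟩ := exists_central_involution S.isPGroup' (hG.sylow_ne_bot S)
  obtain ⟨n, hn, hne⟩ := hG.exists_moved S hz hzS hzc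
  exact ⟨z, n * z * n⁻¹, hzS, (mem_normalizer_iff.mp hn z).mp hzS, hz,
    by rw [Involutions.Basic.orderOf_conj, hz], hne.symm, hzc,
    fun s hs => commute_conj_of_normalizer hn hzc hs⟩

/-- `S ⊓ C(i)` is a Sylow subgroup of `C(i)` for `i ∈ S`, its normalizer lies in `N(S)`. -/
theorem Reduced.exists_sylow_centralizer (hG : Reduced G) (S : Sylow 2 G) {i : G}
    (hiS : i ∈ (S : Subgroup G)) :
    ∃ P : Sylow 2 (centralizer ({i} : Set G)),
      (P : Subgroup (centralizer ({i} : Set G))) = (S : Subgroup G).subgroupOf _ ∧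
      ∀ k ∈ normalizer
          ((P : Subgroup (centralizer ({i} : Set G))) : Set ↥(centralizer ({i} : Set G))),
        (k : G) ∈ normalizer ((S : Subgroup G) : Set G) := by
  obtain ⟨z, z', hzS, hz'S, hz, hz', hne, hzc, hz'c⟩ := hG.exists_two_central S
  set K := centralizer ({i} : Set G) with hK
  have hzK : z ∈ K := mem_cent.mpr (hzc i hiS)
  have hz'K : z' ∈ K := mem_cent.mpr (hz'c i hiS)
  obtain ⟨P, hP⟩ := (S.isPGroup'.comap_subtype (K := K)).exists_le_sylow
  obtain ⟨S₂, hS₂⟩ := (P.isPGroup'.map K.subtype).exists_le_sylow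
  have h2 : S₂ = S := hG.cycInt.eq_of_two (hS₂ ⟨⟨z, hzK⟩, hP hzS, rfl⟩) hzS
    (hS₂ ⟨⟨z', hz'K⟩, hP hz'S, rfl⟩) hz'S hz hz' hne
  subst h2
  have hPeq : (P : Subgroup K) = (S₂ : Subgroup G).subgroupOf K :=
    le_antisymm (fun x hx => hS₂ (mem_map_of_mem _ hx)) hP
  refine ⟨P, hPeq, fun k hk => ?_⟩
  have key : ∀ a : K, (a : G) ∈ (S₂ : Subgroup G) → (k : G) * a * (k : G)⁻¹ ∈ (S₂ : Subgroup G) := by
    intro a ha
    have ha' : a ∈ (P : Subgroup K) := hPeq ▸ ha
    have h : k * a * k⁻¹ ∈ (P : Subgroup K) := (mem_normalizer_iff.mp hk a).mp ha'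
    rw [hPeq] at h
    exact h
  have h1 := key ⟨z, hzK⟩ hzS
  have h1' := key ⟨z', hz'K⟩ hz'S
  refine Sylow.smul_eq_iff_mem_normalizer.mp ?_
  exact hG.cycInt.eq_of_two (conj_mem_smul _ hzS) h1 (conj_mem_smul _ hz'S) h1'
    (by rw [Involutions.Basic.orderOf_conj, hz]) (by rw [Involutions.Basic.orderOf_conj, hz'])
    (fun h => hne (mul_left_cancel (mul_right_cancel h)))

/-- The centralizer of an involution `i` in two Sylow subgroups is nonsolvable, given a suitable
four-group. -/
theorem Reduced.not_solvable_centralizer_of_pair (hG : Reduced G) {S T : Sylow 2 G} (hTS : T ≠ S)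
    {i u v : G} (hi : orderOf i = 2) (hiS : i ∈ (S : Subgroup G)) (hiT : i ∈ (T : Subgroup G))
    (huS : u ∈ (S : Subgroup G)) (hvS : v ∈ (S : Subgroup G)) (hu : orderOf u = 2)
    (hv : orderOf v = 2) (huv : Commute u v) (hiu : Commute i u) (hiv : Commute i v)
    (hne : u ≠ v) (h1 : i ≠ u) (h2 : i ≠ v) (h3 : i ≠ u * v) :
    ¬ Group.IsSolvable (centralizer ({i} : Set G)) := by
  haveI := Fact.mk Nat.prime_two
  intro hsol
  haveI := hsol
  set K := centralizer ({i} : Set G) with hK
  obtain ⟨P, hPeq, -⟩ := hG.exists_sylow_centralizer S hiS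
  let A := four u v (mul_self_of_orderOf hu) (mul_self_of_orderOf hv) huv
  have hA2 : IsPGroup 2 A := isPGroup_four
  haveI : IsMulCommutative A := by
    refine ⟨⟨fun a b => Subtype.ext ?_⟩⟩
    have ha := four_sq a.2
    have hb := four_sq b.2
    have hab := four_sq (mul_mem a.2 b.2)
    show (a : G) * b = b * a
    calc (a : G) * b = ((a : G) * b)⁻¹ := mul_eq_one_iff_eq_inv.mp hab
      _ = (b : G)⁻¹ * (a : G)⁻¹ := mul_inv_rev _ _
      _ = b * a := by rw [← mul_eq_one_iff_eq_inv.mp ha, ← mul_eq_one_iff_eq_inv.mp hb]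
  have huA : u ∈ A := mem_four.mpr (.inr (.inl rfl))
  have hvA : v ∈ A := mem_four.mpr (.inr (.inr (.inl rfl)))
  have hAS : A ≤ (S : Subgroup G) := fun a ha => by
    rcases mem_four.mp ha with rfl | rfl | rfl | rfl
    · exact one_mem _
    · exact huS
    · exact hvS
    · exact mul_mem huS hvS
  have hAnc : ¬ IsCyclic A := fun h => hne (eq_of_cyclic h huA hvA hu hv)
  have hAK : A ≤ K := fun a ha => by
    rw [hK, mem_cent]
    rcases mem_four.mp ha with rfl | rfl | rfl | rfl
    · exact Commute.one_left i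
    · exact hiu.symm
    · exact hiv.symm
    · exact (hiu.mul_right hiv).symm
  let O := (oddCore K).map K.subtype
  have hKO : K ≤ normalizer (O : Set G) := by
    refine le_trans ?_ (le_normalizer_map K.subtype)
    intro x hx
    exact ⟨⟨x, hx⟩, by rw [normalizer_eq_top]; trivial, rfl⟩
  have hOodd : (Nat.card O).Coprime 2 := by
    rw [show Nat.card O = Nat.card (oddCore K) from card_map_of_injective K.subtype_injective]
    exact Agent.Cores.pPrimeCore_card_coprime 2
  have hOgen : O ≤ normalizer ((S : Subgroup G) : Set G) := by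
    rw [← Coprime.fixedGen_eq hAnc (hAK.trans hKO)
      (PLocal.Cores.coprime_card_of_isPGroup hA2 hOodd)]
    refine iSup₂_le fun a ⟨ha, ha1⟩ => ?_
    rintro g ⟨hgO, hga⟩
    have hai : i ≠ a := by
      rcases mem_four.mp ha with rfl | rfl | rfl | rfl
      · exact absurd rfl ha1
      · exact h1
      · exact h2
      · exact h3
    have ha2 : orderOf a = 2 :=
      Involutions.Basic.orderOf_two_iff.mpr ⟨four_sq ha, ha1⟩
    have hgi : Commute g i := mem_cent.mp (map_subtype_le _ hgO)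
    refine Sylow.smul_eq_iff_mem_normalizer.mp ?_
    refine hG.cycInt.eq_of_two ?_ hiS ?_ (hAS ha) hi ha2 hai
    · rw [mem_smul, mul_assoc, ← hgi.eq, inv_mul_cancel_left]; exact hiS
    · rw [mem_smul, mul_assoc, ← (mem_cent.mp hga).eq, inv_mul_cancel_left]; exact hAS ha
  have hOP : oddCore K ≤ normalizer ((P : Subgroup K) : Set K) := by
    intro o ho
    rw [mem_normalizer_iff]
    intro a
    rw [hPeq, mem_subgroupOf, mem_subgroupOf]
    exact mem_normalizer_iff.mp (hOgen (mem_map_of_mem _ ho)) a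
  have hUP : pPrimePCore 2 K ≤ normalizer ((P : Subgroup K) : Set K) := by
    intro x hx
    have hf := QuotientGroup.mk'_surjective (oddCore K)
    have h := Agent.Cores.pCore_le_sylow (P.mapSurjective hf)
      (PLocal.Cores.mem_pPrimePCore_iff.mp hx)
    rw [Sylow.coe_mapSurjective] at h
    obtain ⟨p, hp, hpx⟩ := h
    rw [← mul_inv_cancel_left p x]
    exact mul_mem (le_normalizer hp) (hOP (QuotientGroup.eq.mp hpx))
  have hfix : ∀ k : K, k • P = P := by
    intro k
    have hle := (sylow_le_of_solvable (hG.cycInt.subgroup K) (k • P)).trans hUP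
    have h := P.is_maximal' ((k • P).isPGroup'.to_sup_of_normal_right' P.isPGroup' hle)
      le_sup_right
    have h' : ((k • P : Sylow 2 K) : Subgroup K) ≤ P := le_sup_left.trans h.le
    exact Sylow.ext ((k • P).is_maximal' P.isPGroup' h').symm
  obtain ⟨a, b, haT, hbT, ha, hb, hab, hac, hbc⟩ := hG.exists_two_central T
  obtain ⟨Q, hQ⟩ := (T.isPGroup'.comap_subtype (K := K)).exists_le_sylow
  obtain ⟨k, rfl⟩ := MulAction.exists_smul_eq K P Q
  rw [hfix, hPeq] at hQ
  have haS : a ∈ (S : Subgroup G) :=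
    hQ (show (⟨a, mem_cent.mpr (hac i hiT)⟩ : K) ∈ (T : Subgroup G).subgroupOf K from haT)
  have hbS : b ∈ (S : Subgroup G) :=
    hQ (show (⟨b, mem_cent.mpr (hbc i hiT)⟩ : K) ∈ (T : Subgroup G).subgroupOf K from hbT)
  exact hTS (hG.cycInt.eq_of_two haT haS hbT hbS ha hb hab)

/-- The centralizer of an involution in two Sylow subgroups is nonsolvable, when the Sylow
subgroup has an involution outside its centre. -/
theorem Reduced.not_solvable_centralizer (hG : Reduced G) {S T : Sylow 2 G} (hTS : T ≠ S)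
    {i x : G} (hi : orderOf i = 2) (hiS : i ∈ (S : Subgroup G)) (hiT : i ∈ (T : Subgroup G))
    (hx : orderOf x = 2) (hxS : x ∈ (S : Subgroup G))
    (hxnc : ¬ ∀ s ∈ (S : Subgroup G), Commute x s) :
    ¬ Group.IsSolvable (centralizer ({i} : Set G)) := by
  obtain ⟨z, z', hzS, hz'S, hz, hz', hne, hzc, hz'c⟩ := hG.exists_two_central S
  by_cases hic : ∀ s ∈ (S : Subgroup G), Commute i s
  · obtain ⟨w, hwS, hw, hwc, hwi⟩ : ∃ w, w ∈ (S : Subgroup G) ∧ orderOf w = 2 ∧
        (∀ s ∈ (S : Subgroup G), Commute w s) ∧ i ≠ w := by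
      by_cases h : i = z
      · exact ⟨z', hz'S, hz', hz'c, h ▸ hne⟩
      · exact ⟨z, hzS, hz, hzc, h⟩
    refine hG.not_solvable_centralizer_of_pair hTS hi hiS hiT hwS hxS hw hx (hwc x hxS)
      (hic w hwS) (hic x hxS) ?_ hwi ?_ ?_
    · rintro rfl; exact hxnc hwc
    · rintro rfl; exact hxnc hic
    · intro h
      refine hxnc fun s hs => ?_
      have hxe : x = w * i := by rw [h, ← mul_assoc, mul_self_of_orderOf hw, one_mul]
      rw [hxe]
      exact (hwc s hs).mul_left (hic s hs)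
  · refine hG.not_solvable_centralizer_of_pair hTS hi hiS hiT hzS hz'S hz hz' (hzc z' hz'S)
      (hzc i hiS).symm (hz'c i hiS).symm hne ?_ ?_ ?_
    · rintro rfl; exact hic hzc
    · rintro rfl; exact hic hz'c
    · rintro rfl; exact hic fun s hs => (hzc s hs).mul_left (hz'c s hs)

end Cfsg.Agent.ZStar.CyclicIntersections
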