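import Cfsg.Agent.Lib.ZStar.CyclicIntersections.Fixed
import Cfsg.Agent.Lib.Coprime.Commutator

/-!
In a nonsolvable group without odd core whose distinct Sylow 2-subgroups meet cyclically the
2-core is central.
-/

set_option autoImplicit false
set_option linter.style.haveILetI false

namespace Cfsg.Agent.ZStar.CyclicIntersections

open Cfsg Subgroup
open scoped Pointwise

universe u

theorem central_all : ∀ (n : ℕ) (G : Type u) [Group G] [Finite G], Nat.card G ≤ n →
    ¬ Group.IsSolvable G → CycInt G → oddCore G = ⊥ → pCore 2 G ≤ center G := by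
  intro n
  induction n with
  | zero => intro G _ _ h; exact absurd (Nat.le_zero.mp h) Nat.card_pos.ne'
  | succ n ih =>
    intro G _ _ hn hns hC h0
    haveI := Fact.mk Nat.prime_two
    by_contra hnc
    haveI := isCyclic_pCore hC hns
    have hQ2 : IsPGroup 2 (pCore 2 G) := Agent.Cores.pCore_isPGroup 2
    let φ : G →* MulAut (pCore 2 G) := MulAut.conjNormal
    have hker : φ.ker ≠ ⊤ := by
      intro h
      refine hnc fun q hq => Subgroup.mem_center_iff.mpr fun g => ?_
      exact (mem_centralizer_iff.mp (mem_ker_conjNormal.mp (h ▸ mem_top g : g ∈ φ.ker)) q hq).symm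
    have hrange : IsPGroup 2 φ.range := isPGroup_conjNormal_range _ hQ2
    have hodd : ∀ R : Subgroup G, Odd (Nat.card R) → R ≤ φ.ker := by
      intro R hR
      rw [← Subgroup.map_eq_bot_iff]
      refine PLocal.Cores.not_isPGroup_coprime (hrange.to_le ?_)
        ((Nat.coprime_two_right.mpr hR).coprime_dvd_left (R.card_map_dvd φ))
      rw [MonoidHom.range_eq_map]
      exact map_mono le_top
    let S : Sylow 2 G := default
    have hSker : ¬ (S : Subgroup G) ≤ φ.ker := by
      intro h
      obtain ⟨k, hk⟩ := IsPGroup.iff_card.mp hrange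
      rw [← index_ker] at hk
      refine hker (index_eq_one.mp ?_)
      rcases Nat.eq_zero_or_pos k with rfl | hpos
      · rw [hk, pow_zero]
      · exact absurd (((hk ▸ dvd_pow_self 2 hpos.ne' : 2 ∣ φ.ker.index)).trans
          (index_dvd_of_le h)) S.not_dvd_index
    obtain ⟨R, hRN, hRodd, hNR⟩ := exists_complement S
    have hRker := hodd R hRodd
    have hcop : (Nat.card R).Coprime (Nat.card S) :=
      (PLocal.Cores.coprime_card_of_isPGroup S.isPGroup' (Nat.coprime_two_right.mpr hRodd)).symm
    have hcomm : ⁅(S : Subgroup G), R⁆ ≤ φ.ker := by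
      rw [commutator_le]
      intro s hs r hr
      rw [MonoidHom.mem_ker, map_commutatorElement, MonoidHom.mem_ker.mp (hRker hr),
        commutatorElement_one_right]
    obtain ⟨y, ⟨hyS, hyR⟩, hy⟩ : ∃ y, y ∈ (S : Subgroup G) ⊓ centralizer (R : Set G) ∧
        y ∉ φ.ker := by
      obtain ⟨s, hs, hsk⟩ := SetLike.not_le_iff_exists.mp hSker
      obtain ⟨c, hc, d, hd, rfl⟩ := Coprime.exists_eq_centralizer_mul_commutator hRN hcop
        (Or.inr (isSolvable_isPGroup S.isPGroup')) hs
      exact ⟨c, hc, fun h => hsk (mul_mem h (hcomm hd))⟩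
    have hQker : pCore 2 G ≤ φ.ker := fun q hq => mem_ker_conjNormal.mpr <|
      mem_centralizer_iff.mpr fun a ha =>
        congrArg Subtype.val ((IsCyclic.commGroup (α := ↥(pCore 2 G))).mul_comm ⟨a, ha⟩ ⟨q, hq⟩)
    have hex : ∃ k, y ^ (2 ^ k) ∈ pCore 2 G := by
      obtain ⟨k, hk⟩ := S.isPGroup' ⟨y, hyS⟩
      have h1 : y ^ (2 ^ k) = 1 := congrArg Subtype.val hk
      exact ⟨k, by rw [h1]; exact one_mem _⟩
    classical
    obtain ⟨m, hm⟩ : ∃ m, Nat.find hex = m + 1 := by
      refine ⟨Nat.find hex - 1, ?_⟩
      have : Nat.find hex ≠ 0 := fun h => by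
        have := Nat.find_spec hex
        rw [h, pow_zero, pow_one] at this
        exact hy (hQker this)
      omega
    set x := y ^ (2 ^ m) with hx
    have hxQ : x ∉ pCore 2 G := Nat.find_min hex (by omega)
    have hxx : x * x ∈ pCore 2 G := by
      have := Nat.find_spec hex
      rwa [hm, pow_succ, pow_mul, pow_two] at this
    have hxS : x ∈ (S : Subgroup G) := pow_mem hyS _
    have hxR : ∀ r ∈ R, Commute x r := fun r hr =>
      Commute.pow_left ((mem_centralizer_iff.mp hyR r hr).symm : y * r = r * y) _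
    let π := QuotientGroup.mk' (pCore 2 G)
    have hπ : Function.Surjective π := QuotientGroup.mk'_surjective _
    have hred : Reduced (G ⧸ pCore 2 G) :=
      reduced_quotient hns hC _ (isSolvable_isPGroup hQ2)
        fun M hM hMs => haveI := hM; le_pCore_of_solvable hC hns h0 M hMs
    have hx2 : orderOf (π x) = 2 := by
      rw [Involutions.Basic.orderOf_two_iff, ← map_mul]
      exact ⟨(QuotientGroup.eq_one_iff _).mpr hxx,
        fun h => hxQ ((QuotientGroup.eq_one_iff _).mp h)⟩
    let S' := S.mapSurjective hπ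
    have hxS' : π x ∈ (S' : Subgroup (G ⧸ pCore 2 G)) := by
      rw [Sylow.coe_mapSurjective]; exact mem_map_of_mem _ hxS
    have hR'N : R.map π ≤ normalizer ((S' : Subgroup (G ⧸ pCore 2 G)) : Set (G ⧸ pCore 2 G)) := by
      rw [Sylow.coe_mapSurjective]
      exact (map_mono hRN).trans (le_normalizer_map _)
    have hNR' : normalizer ((S' : Subgroup (G ⧸ pCore 2 G)) : Set (G ⧸ pCore 2 G)) ≤
        (S' : Subgroup (G ⧸ pCore 2 G)) ⊔ R.map π := by
      rw [Sylow.coe_mapSurjective, Counting.SylowCount.normalizer_map_mk', ← Subgroup.map_sup]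
      exact map_mono hNR
    have hxR' : ∀ r ∈ R.map π, Commute (π x) r := by
      rintro _ ⟨r, hr, rfl⟩
      exact (hxR r hr).map π
    by_cases huniq : ∀ T : Sylow 2 (G ⧸ pCore 2 G), π x ∈ (T : Subgroup _) → T = S'
    · have h := fixed_all (Nat.card (G ⧸ pCore 2 G)) _ le_rfl hred.nonsolvable hred.cycInt S'
        (R.map π) hR'N ?_ hNR' (π x) hxS' ?_ hxR' huniq
      · rw [hred.noSolv _ inferInstance isSolvable_pPrimePCore, mem_bot] at h
        rw [h, orderOf_one] at hx2
        omega
      · exact hRodd.of_dvd_nat (R.card_map_dvd π)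
      · rw [mul_self_of_orderOf hx2]
        exact one_mem _
    · push Not at huniq
      obtain ⟨T, hxT, hTS⟩ := huniq
      have hxnc : ¬ ∀ s ∈ (S' : Subgroup (G ⧸ pCore 2 G)), Commute (π x) s := by
        intro hc
        obtain ⟨a, ha, hne⟩ := hred.exists_moved S' hx2 hxS' hc
        have hle : (S' : Subgroup (G ⧸ pCore 2 G)) ⊔ R.map π ≤ centralizer ({π x} : Set _) :=
          sup_le (fun s hs => mem_cent.mpr (hc s hs).symm)
            fun r hr => mem_cent.mpr (hxR' r hr).symm
        exact hne (by rw [(mem_cent.mp (hle (hNR' ha))).eq, mul_assoc, mul_inv_cancel, mul_one])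
      have hnsC := hred.not_solvable_centralizer hTS hx2 hxS' hxT hx2 hxS' hxnc
      set M := (centralizer ({π x} : Set (G ⧸ pCore 2 G))).comap π with hMdef
      have hMtop : M ≠ ⊤ := by
        intro h
        refine hred.centralizer_ne_top (i := π x) (fun h => by rw [h, orderOf_one] at hx2; omega) ?_
        rw [← map_comap_eq_self_of_surjective hπ (centralizer ({π x} : Set (G ⧸ pCore 2 G))),
          ← hMdef, h, Subgroup.map_top_of_surjective _ hπ]
      have hMns : ¬ Group.IsSolvable M := fun h =>
        haveI := h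
        hnsC (Group.isSolvable_of_surjective (π.subgroupComap_surjective_of_surjective _ hπ))
      have hyM : y ∈ M := by
        rw [hMdef, mem_comap, mem_cent, hx, map_pow]
        exact (Commute.refl _).pow_right _
      let D := (zpowers (π x)).comap π
      have hD2 : IsPGroup 2 D :=
        (IsPGroup.of_card (n := 1) (by rw [Nat.card_zpowers, hx2, pow_one])).comap_of_ker_isPGroup _
          (by rw [QuotientGroup.ker_mk']; exact hQ2)
      haveI hDn : (D.subgroupOf M).Normal := by
        refine ⟨fun d hd k => ?_⟩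
        rw [mem_subgroupOf] at hd ⊢
        obtain ⟨j, hj⟩ := mem_zpowers_iff.mp hd
        show π ((k : G) * d * (k : G)⁻¹) ∈ zpowers (π x)
        have hk : Commute (π k) (π x) := mem_cent.mp k.2
        rw [map_mul, map_mul, map_inv, ← hj, (hk.zpow_right j).eq, mul_assoc, mul_inv_cancel,
          mul_one]
        exact zpow_mem (mem_zpowers _) j
      have hf := QuotientGroup.mk'_surjective (oddCore M)
      have hcard : Nat.card (M ⧸ oddCore M) ≤ n := by
        have := card_lt_of_ne_top hMtop
        have := Nat.card_le_card_of_surjective _ hf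
        omega
      have hcen := ih (M ⧸ oddCore M) hcard (not_isSolvable_quotient hMns _ isSolvable_oddCore)
        ((hC.subgroup M).map hf) (Agent.Cores.pPrimeCore_quotient_self 2)
      refine hy (mem_ker_conjNormal.mpr (mem_centralizer_iff.mpr fun q hq => ?_))
      have hqD : q ∈ D := by
        rw [show D = (zpowers (π x)).comap π from rfl, mem_comap,
          show π q = 1 from (QuotientGroup.eq_one_iff q).mpr hq]
        exact one_mem _
      have hqM : q ∈ M := by
        rw [hMdef, mem_comap, show π q = 1 from (QuotientGroup.eq_one_iff q).mpr hq]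
        exact one_mem _
      let d : M := ⟨q, hqM⟩
      let Y : M := ⟨y, hyM⟩
      have hd : d ∈ D.subgroupOf M := hqD
      have hdcen : (d : M ⧸ oddCore M) ∈ center (M ⧸ oddCore M) :=
        hcen (Agent.Cores.map_pCore_le hf 2
          (mem_map_of_mem _ (Agent.Cores.le_pCore (N := D.subgroupOf M) hD2.comap_subtype hd)))
      have h1 : Y * d * Y⁻¹ * d⁻¹ ∈ oddCore M := by
        rw [← QuotientGroup.eq_one_iff]
        simp only [QuotientGroup.mk_mul, QuotientGroup.mk_inv]
        rw [Subgroup.mem_center_iff.mp hdcen, mul_assoc (d : M ⧸ oddCore M), mul_inv_cancel,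
          mul_one, mul_inv_cancel]
      have h2 : Y * d * Y⁻¹ * d⁻¹ ∈ D.subgroupOf M :=
        mul_mem (hDn.conj_mem d hd Y) (inv_mem hd)
      have h3 : Y * d * Y⁻¹ * d⁻¹ ∈ D.subgroupOf M ⊓ oddCore M := ⟨h2, h1⟩
      have h5 : D.subgroupOf M ⊓ oddCore M = ⊥ :=
        PLocal.Cores.inf_eq_bot_of_isPGroup_of_coprime hD2.comap_subtype
          (Agent.Cores.pPrimeCore_card_coprime 2)
      rw [h5, mem_bot] at h3
      have h4 := congrArg Subtype.val (mul_inv_eq_iff_eq_mul.mp (mul_inv_eq_one.mp h3))
      exact h4.symm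

end Cfsg.Agent.ZStar.CyclicIntersections
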