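import Cfsg.Agent.Lib.Cores.Fitting
import Cfsg.Agent.Lib.PLocal.Cores
import Cfsg.Agent.Lib.Coprime.Basic
import Cfsg.Agent.S0205

/-!
Groups in which distinct Sylow 2-subgroups meet in cyclic groups: inheritance, solvable normal
subgroups, and the subgroup `O_{2',2}`.
-/

set_option autoImplicit false
set_option linter.style.haveILetI false

namespace Cfsg.Agent.ZStar.CyclicIntersections

open Cfsg Subgroup

variable {G H : Type*} [Group G] [Group H]

/-- Any two distinct Sylow 2-subgroups meet in a cyclic group. -/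
def CycInt (G : Type*) [Group G] : Prop :=
  ∀ S T : Sylow 2 G, S ≠ T → IsCyclic ↥((S : Subgroup G) ⊓ (T : Subgroup G))

/-- A cyclic subgroup has at most one involution. -/
theorem eq_of_cyclic [Finite G] {C : Subgroup G} (hC : IsCyclic C) {x y : G} (hx : x ∈ C)
    (hy : y ∈ C) (hx2 : orderOf x = 2) (hy2 : orderOf y = 2) : x = y := by
  classical
  haveI := Fintype.ofFinite C
  by_contra hne
  have h := IsCyclic.card_pow_eq_one_le (α := C) (n := 2) two_pos
  have hsub : ({1, ⟨x, hx⟩, ⟨y, hy⟩} : Finset C) ⊆ Finset.univ.filter fun a => a ^ 2 = 1 := by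
    intro a ha
    simp only [Finset.mem_filter, Finset.mem_univ, true_and]
    simp only [Finset.mem_insert, Finset.mem_singleton] at ha
    rcases ha with rfl | rfl | rfl
    · exact one_pow 2
    · exact Subtype.ext (by simpa [← hx2] using pow_orderOf_eq_one x)
    · exact Subtype.ext (by simpa [← hy2] using pow_orderOf_eq_one y)
  have h1 : x ≠ 1 := fun h => by simp [h] at hx2
  have h2 : y ≠ 1 := fun h => by simp [h] at hy2
  have hcard : ({1, ⟨x, hx⟩, ⟨y, hy⟩} : Finset C).card = 3 := by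
    rw [Finset.card_insert_of_notMem, Finset.card_pair]
    · exact fun e => hne (congrArg Subtype.val e)
    · simp only [Finset.mem_insert, Finset.mem_singleton, not_or]
      exact ⟨fun e => h1 (congrArg Subtype.val e).symm, fun e => h2 (congrArg Subtype.val e).symm⟩
  have := Finset.card_le_card hsub
  omega

/-- Two Sylow subgroups with two common involutions are equal. -/
theorem CycInt.eq_of_two [Finite G] (hC : CycInt G) {S T : Sylow 2 G} {x y : G}
    (hxS : x ∈ (S : Subgroup G)) (hxT : x ∈ (T : Subgroup G)) (hyS : y ∈ (S : Subgroup G))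
    (hyT : y ∈ (T : Subgroup G)) (hx2 : orderOf x = 2) (hy2 : orderOf y = 2) (hne : x ≠ y) :
    S = T := by
  by_contra h
  exact hne (eq_of_cyclic (hC S T h) ⟨hxS, hxT⟩ ⟨hyS, hyT⟩ hx2 hy2)

theorem CycInt.subgroup [Finite G] (hC : CycInt G) (K : Subgroup G) : CycInt K := by
  intro S T hST
  obtain ⟨S', hS'⟩ := (S.isPGroup'.map K.subtype).exists_le_sylow
  obtain ⟨T', hT'⟩ := (T.isPGroup'.map K.subtype).exists_le_sylow
  have key : ∀ (U : Sylow 2 K) (V : Sylow 2 G), (U : Subgroup K).map K.subtype ≤ V →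
      (V : Subgroup G).subgroupOf K = (U : Subgroup K) := fun U V h =>
    U.is_maximal' V.isPGroup'.comap_subtype fun x hx => h (mem_map_of_mem _ hx)
  have hne : S' ≠ T' := by
    intro h
    subst h
    exact hST (Sylow.ext ((key S S' hS').symm.trans (key T S' hT')))
  haveI := hC S' T' hne
  let f : ↥((S : Subgroup K) ⊓ T) →* ↥((S' : Subgroup G) ⊓ T') :=
    (K.subtype.comp (Subgroup.subtype _)).codRestrict _
      fun x => ⟨hS' (mem_map_of_mem _ x.2.1), hT' (mem_map_of_mem _ x.2.2)⟩
  refine isCyclic_of_injective f fun a b h => ?_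
  exact Subtype.ext (Subtype.ext (congrArg Subtype.val h :))

/-- A 2-subgroup of the preimage of a 2-subgroup `X` extends to one mapping onto `X`. -/
theorem exists_lift [Finite G] {f : G →* H} (hf : Function.Surjective f) {X : Subgroup H}
    (hX : IsPGroup 2 X) {D₀ : Subgroup G} (hD₀ : IsPGroup 2 D₀) (hle : D₀ ≤ X.comap f) :
    ∃ D : Subgroup G, IsPGroup 2 D ∧ D₀ ≤ D ∧ D.map f = X := by
  haveI : Finite X := Finite.of_surjective _ (f.subgroupComap_surjective_of_surjective X hf)
  obtain ⟨P, hP⟩ := (hD₀.comap_subtype (K := X.comap f)).exists_le_sylow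
  refine ⟨(P : Subgroup _).map (X.comap f).subtype, P.isPGroup'.map _, ?_, ?_⟩
  · intro d hd
    exact ⟨⟨d, hle hd⟩, hP hd, rfl⟩
  · let Q := P.mapSurjective (f.subgroupComap_surjective_of_surjective X hf)
    have htop : (Q : Subgroup X) = ⊤ := (Q.is_maximal' (hX.to_subgroup ⊤) le_top).symm
    refine le_antisymm ?_ fun x hx => ?_
    · rintro _ ⟨_, ⟨⟨d, hd⟩, -, rfl⟩, rfl⟩
      exact hd
    · have h : (⟨x, hx⟩ : X) ∈ (Q : Subgroup X) := htop ▸ mem_top _
      rw [Sylow.coe_mapSurjective] at h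
      obtain ⟨d, hd, hdx⟩ := h
      exact ⟨d, mem_map_of_mem _ hd, congrArg Subtype.val hdx⟩

/-- A 2-subgroup mapped into a Sylow subgroup of the image lies in a Sylow subgroup mapped onto
it. -/
theorem exists_sylow_lift [Finite G] {f : G →* H} (hf : Function.Surjective f) (S : Sylow 2 H)
    {D₀ : Subgroup G} (hD₀ : IsPGroup 2 D₀) (hle : D₀ ≤ (S : Subgroup H).comap f) :
    ∃ S₁ : Sylow 2 G, D₀ ≤ S₁ ∧ (S₁ : Subgroup G).map f = S := by
  obtain ⟨D, hD, hDD, hmap⟩ := exists_lift hf S.isPGroup' hD₀ hle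
  obtain ⟨S₁, hS₁⟩ := hD.exists_le_sylow
  exact ⟨S₁, hDD.trans hS₁, S.is_maximal' (S₁.isPGroup'.map f) (hmap ▸ map_mono hS₁)⟩

theorem CycInt.map [Finite G] (hC : CycInt G) {f : G →* H} (hf : Function.Surjective f) :
    CycInt H := by
  intro S T hST
  obtain ⟨D, hD, -, hmap⟩ := exists_lift hf (S.isPGroup'.to_le inf_le_left :
    IsPGroup 2 ↥((S : Subgroup H) ⊓ T)) (D₀ := ⊥) IsPGroup.of_bot bot_le
  have hle : ∀ U : Sylow 2 H, (S : Subgroup H) ⊓ T ≤ U → D ≤ (U : Subgroup H).comap f :=
    fun U hU => map_le_iff_le_comap.mp (hmap.le.trans hU)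
  obtain ⟨S₁, hS₁, hSmap⟩ := exists_sylow_lift hf S hD (hle S inf_le_left)
  obtain ⟨T₁, hT₁, hTmap⟩ := exists_sylow_lift hf T hD (hle T inf_le_right)
  have hne : S₁ ≠ T₁ := fun h => hST (Sylow.ext (by rw [← hSmap, ← hTmap, h]))
  haveI := hC S₁ T₁ hne
  haveI : IsCyclic D := isCyclic_of_le (le_inf hS₁ hT₁)
  haveI : IsCyclic ↥(D.map f) := isCyclic_of_surjective _ (f.subgroupMap_surjective D)
  exact isCyclic_of_le hmap.ge

theorem isSolvable_ext (N : Subgroup G) [N.Normal] (h1 : Group.IsSolvable N)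
    (h2 : Group.IsSolvable (G ⧸ N)) : Group.IsSolvable G :=
  (Group.isSolvable_iff_subgroup_quotient N).mpr ⟨h1, h2⟩

theorem isSolvable_oddCore [Finite G] : Group.IsSolvable ↥(oddCore G) :=
  S0205.result (Agent.Cores.oddCore_odd (G := G))

theorem isSolvable_isPGroup [Finite G] (h : IsPGroup 2 G) : Group.IsSolvable G :=
  Coprime.isSolvable_of_isPGroup h

/-- The conjugation action on a normal cyclic 2-subgroup has 2-power image. -/
theorem isPGroup_conjNormal_range [Finite G] (Q : Subgroup G) [Q.Normal] [IsCyclic Q]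
    (hQ : IsPGroup 2 Q) : IsPGroup 2 (MulAut.conjNormal : G →* MulAut Q).range := by
  obtain ⟨k, hk⟩ := IsPGroup.iff_card.mp hQ
  haveI : NeZero (Nat.card Q) := ⟨Nat.card_pos.ne'⟩
  have hA : IsPGroup 2 (MulAut Q) := by
    obtain ⟨j, hj⟩ : ∃ j, Nat.card (MulAut Q) = 2 ^ j := by
      rw [Nat.card_congr (IsCyclic.mulAutMulEquiv Q).toEquiv, Nat.card_eq_fintype_card,
        ZMod.card_units_eq_totient, hk]
      rcases Nat.eq_zero_or_pos k with rfl | hpos
      · exact ⟨0, by simp⟩
      · exact ⟨k - 1, by rw [Nat.totient_prime_pow Nat.prime_two hpos]; simp⟩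
    exact IsPGroup.of_card hj
  exact hA.to_subgroup _

theorem mem_ker_conjNormal {Q : Subgroup G} [Q.Normal] {g : G} :
    g ∈ (MulAut.conjNormal : G →* MulAut Q).ker ↔ g ∈ centralizer (Q : Set G) := by
  rw [MonoidHom.mem_ker, mem_centralizer_iff]
  constructor
  · intro h q hq
    have h1 := congrArg (fun φ : MulAut Q => ((φ ⟨q, hq⟩ : Q) : G)) h
    simp only [MulAut.conjNormal_apply, MulAut.one_apply] at h1
    exact (mul_inv_eq_iff_eq_mul.mp h1).symm
  · intro h
    refine MulEquiv.ext fun q => Subtype.ext ?_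
    rw [MulAut.conjNormal_apply, ← h q q.2, MulAut.one_apply, mul_assoc, mul_inv_cancel, mul_one]

/-- A solvable group without odd core and with cyclic 2-core is a 2-group. -/
theorem isPGroup_of_cyclic_pCore [Finite G] [Group.IsSolvable G] (h0 : oddCore G = ⊥)
    (hcyc : IsCyclic ↥(pCore 2 G)) : IsPGroup 2 G := by
  haveI := Fact.mk Nat.prime_two
  have hF : fittingSubgroup G ≤ pCore 2 G := by
    rw [Agent.Cores.fittingSubgroup_eq_iSup]
    refine iSup_le fun p => ?_
    rcases eq_or_ne (p : ℕ) 2 with h | h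
    · rw [h]
    · haveI : Fact (p : ℕ).Prime := ⟨Nat.prime_of_mem_primeFactors p.2⟩
      obtain ⟨k, hk⟩ := IsPGroup.iff_card.mp (Agent.Cores.pCore_isPGroup (G := G) p)
      have hodd : Odd (Nat.card (pCore (p : ℕ) G)) := by
        rw [hk]
        exact ((Nat.prime_of_mem_primeFactors p.2).odd_of_ne_two h).pow
      exact (Agent.Cores.le_oddCore hodd).trans (h0 ▸ bot_le)
  haveI := hcyc
  have hQ : IsPGroup 2 (pCore 2 G) := Agent.Cores.pCore_isPGroup 2
  have hker : IsPGroup 2 (MulAut.conjNormal : G →* MulAut (pCore 2 G)).ker := by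
    refine hQ.to_le fun g hg => hF (Agent.Cores.centralizer_fittingSubgroup_le ?_)
    exact centralizer_le hF (mem_ker_conjNormal.mp hg)
  have := (isPGroup_conjNormal_range (pCore 2 G) hQ).comap_of_ker_isPGroup _ hker
  rw [MonoidHom.comap_range_self] at this
  exact this.of_equiv topEquiv

theorem exists_ne_sylow [Finite G] (hns : ¬ Group.IsSolvable G) (S : Sylow 2 G) :
    ∃ T : Sylow 2 G, T ≠ S := by
  haveI := Fact.mk Nat.prime_two
  by_contra h
  push Not at h
  haveI : Subsingleton (Sylow 2 G) := ⟨fun a b => (h a).trans (h b).symm⟩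
  haveI := S.normal_of_subsingleton
  refine hns (isSolvable_ext (S : Subgroup G) (isSolvable_isPGroup S.isPGroup') ?_)
  refine S0205.result ?_
  rw [← index_eq_card, Nat.odd_iff, ← Nat.two_dvd_ne_zero]
  exact S.not_dvd_index

theorem isCyclic_pCore [Finite G] (hC : CycInt G) (hns : ¬ Group.IsSolvable G) :
    IsCyclic ↥(pCore 2 G) := by
  haveI := Fact.mk Nat.prime_two
  let S : Sylow 2 G := default
  obtain ⟨T, hT⟩ := exists_ne_sylow hns S
  haveI := hC T S hT
  exact isCyclic_of_le (le_inf (Agent.Cores.pCore_le_sylow T) (Agent.Cores.pCore_le_sylow S))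

/-- Solvable normal subgroups lie in the 2-core when the odd core is trivial. -/
theorem le_pCore_of_solvable [Finite G] (hC : CycInt G) (hns : ¬ Group.IsSolvable G)
    (h0 : oddCore G = ⊥) (N : Subgroup G) [N.Normal] (hN : Group.IsSolvable N) :
    N ≤ pCore 2 G := by
  haveI := Fact.mk Nat.prime_two
  haveI := hN
  have h0N : oddCore N = ⊥ := by
    refine (Subgroup.map_eq_bot_iff_of_injective _ N.subtype_injective).mp (le_bot_iff.mp ?_)
    exact (Agent.Cores.map_pPrimeCore_subtype_le 2 N).trans h0.le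
  haveI := isCyclic_pCore hC hns
  have hcyc : IsCyclic ↥(pCore 2 N) := by
    haveI : IsCyclic ↥((pCore 2 N).map N.subtype) :=
      isCyclic_of_le (Agent.Cores.map_pCore_subtype_le 2 N)
    exact isCyclic_of_injective ((pCore 2 N).equivMapOfInjective _ N.subtype_injective).toMonoidHom
      ((pCore 2 N).equivMapOfInjective _ N.subtype_injective).injective
  exact Agent.Cores.le_pCore (isPGroup_of_cyclic_pCore h0N hcyc)

theorem not_isSolvable_quotient [Finite G] (hns : ¬ Group.IsSolvable G) (N : Subgroup G)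
    [N.Normal] (hN : Group.IsSolvable N) : ¬ Group.IsSolvable (G ⧸ N) :=
  fun h => hns (isSolvable_ext N hN h)

/-- A solvable group of this kind has all its Sylow 2-subgroups inside `O_{2',2}`. -/
theorem sylow_le_of_solvable [Finite G] [Group.IsSolvable G] (hC : CycInt G) (P : Sylow 2 G) :
    (P : Subgroup G) ≤ pPrimePCore 2 G := by
  haveI := Fact.mk Nat.prime_two
  have hf := QuotientGroup.mk'_surjective (oddCore G)
  have key : (P.mapSurjective hf : Subgroup (G ⧸ oddCore G)) ≤ pCore 2 (G ⧸ oddCore G) := by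
    by_cases hs : Subsingleton (Sylow 2 (G ⧸ oddCore G))
    · haveI := (P.mapSurjective hf).normal_of_subsingleton
      exact Agent.Cores.le_pCore (P.mapSurjective hf).isPGroup'
    · obtain ⟨A, B, hAB⟩ : ∃ A B : Sylow 2 (G ⧸ oddCore G), A ≠ B := by
        by_contra h
        push Not at h
        exact hs ⟨h⟩
      haveI := hC.map hf A B hAB
      have hcyc : IsCyclic ↥(pCore 2 (G ⧸ oddCore G)) :=
        isCyclic_of_le (le_inf (Agent.Cores.pCore_le_sylow A) (Agent.Cores.pCore_le_sylow B))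
      have := isPGroup_of_cyclic_pCore (Agent.Cores.pPrimeCore_quotient_self 2) hcyc
      rw [(Agent.Cores.pCore_eq_top_iff 2).mpr this]
      exact le_top
  intro x hx
  apply PLocal.Cores.mem_pPrimePCore_iff.mpr
  exact key (by rw [Sylow.coe_mapSurjective]; exact mem_map_of_mem _ hx)

theorem isSolvable_pPrimePCore [Finite G] : Group.IsSolvable ↥(pPrimePCore 2 G) := by
  haveI := Fact.mk Nat.prime_two
  let f : ↥(pPrimePCore 2 G) →* ↥(pCore 2 (G ⧸ oddCore G)) :=
    ((QuotientGroup.mk' (oddCore G)).comp (Subgroup.subtype _)).codRestrict _ fun x => x.2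
  let g : ↥(oddCore G) →* ↥(pPrimePCore 2 G) :=
    Subgroup.inclusion PLocal.Cores.pPrimeCore_le_pPrimePCore
  haveI := isSolvable_oddCore (G := G)
  haveI := isSolvable_isPGroup (Agent.Cores.pCore_isPGroup (G := G ⧸ oddCore G) 2)
  refine Group.isSolvable_of_ker_le_range g f fun x hx => ?_
  have h1 : QuotientGroup.mk' (oddCore G) (x : G) = 1 := congrArg Subtype.val hx
  exact ⟨⟨x, (QuotientGroup.eq_one_iff _).mp h1⟩, Subtype.ext rfl⟩

/-- In a nonsolvable group of this kind a solvable normal subgroup lies in `O_{2',2}`. -/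
theorem le_pPrimePCore_of_solvable [Finite G] (hC : CycInt G) (hns : ¬ Group.IsSolvable G)
    (N : Subgroup G) [N.Normal] (hN : Group.IsSolvable N) : N ≤ pPrimePCore 2 G := by
  have hf := QuotientGroup.mk'_surjective (oddCore G)
  haveI := Subgroup.Normal.map ‹N.Normal› _ hf
  have h := le_pCore_of_solvable (hC.map hf) (not_isSolvable_quotient hns _ isSolvable_oddCore)
    (Agent.Cores.pPrimeCore_quotient_self 2) (N.map (QuotientGroup.mk' (oddCore G)))
    (Coprime.isSolvable_map _ hN)
  exact map_le_iff_le_comap.mp h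

/-- A Sylow 2-subgroup meets `O_{2',2}` cyclically. -/
theorem isCyclic_inf_pPrimePCore [Finite G] (hC : CycInt G) (hns : ¬ Group.IsSolvable G)
    (P : Sylow 2 G) : IsCyclic ↥((P : Subgroup G) ⊓ pPrimePCore 2 G) := by
  haveI := Fact.mk Nat.prime_two
  have hf := QuotientGroup.mk'_surjective (oddCore G)
  haveI := isCyclic_pCore (hC.map hf) (not_isSolvable_quotient hns _ isSolvable_oddCore)
  let f : ↥((P : Subgroup G) ⊓ pPrimePCore 2 G) →* ↥(pCore 2 (G ⧸ oddCore G)) :=
    ((QuotientGroup.mk' (oddCore G)).comp (Subgroup.subtype _)).codRestrict _ fun x => x.2.2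
  refine isCyclic_of_injective f ((injective_iff_map_eq_one f).mpr fun x hx => ?_)
  have h1 : (x : G) ∈ oddCore G := (QuotientGroup.eq_one_iff _).mp (congrArg Subtype.val hx)
  have h2 : (x : G) ∈ (P : Subgroup G) ⊓ oddCore G := ⟨x.2.1, h1⟩
  rw [PLocal.Cores.inf_eq_bot_of_isPGroup_of_coprime P.isPGroup'
    (Agent.Cores.pPrimeCore_card_coprime 2), mem_bot] at h2
  exact Subtype.ext h2

end Cfsg.Agent.ZStar.CyclicIntersections
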