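import Cfsg.Agent.Lib.ZStar.CyclicIntersections.Reduced
import Cfsg.Agent.Lib.Coprime.Action
import Cfsg.Agent.Lib.Counting.SylowCount

/-!
An element of a Sylow 2-subgroup `S`, of order two modulo `O_{2',2}`, fixed by a complement of `S`
in its normalizer and lying in no other Sylow subgroup, lies in `O_{2',2}`.
-/

set_option autoImplicit false
set_option linter.style.haveILetI false

namespace Cfsg.Agent.ZStar.CyclicIntersections

open Cfsg Subgroup
open scoped Pointwise

universe u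

/-- The property proved by induction on the group order. -/
def FixedProp (G : Type u) [Group G] : Prop :=
  ¬ Group.IsSolvable G → CycInt G → ∀ (S : Sylow 2 G) (R : Subgroup G),
    R ≤ normalizer ((S : Subgroup G) : Set G) → Odd (Nat.card R) →
    normalizer ((S : Subgroup G) : Set G) ≤ (S : Subgroup G) ⊔ R →
    ∀ x ∈ (S : Subgroup G), x * x ∈ pPrimePCore 2 G → (∀ r ∈ R, Commute x r) →
    (∀ T : Sylow 2 G, x ∈ (T : Subgroup G) → T = S) → x ∈ pPrimePCore 2 G

variable {G : Type u} [Group G] [Finite G]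

theorem card_lt_of_ne_top {K : Subgroup G} (hK : K ≠ ⊤) : Nat.card K < Nat.card G :=
  lt_of_le_of_ne (Nat.le_of_dvd Nat.card_pos K.card_subgroup_dvd_card)
    fun h => hK (Subgroup.eq_top_of_card_eq _ h)

/-- Modulo a maximal solvable normal subgroup the configuration is reduced. -/
theorem reduced_quotient (hns : ¬ Group.IsSolvable G) (hC : CycInt G) (N : Subgroup G) [N.Normal]
    (hN : Group.IsSolvable N)
    (hmax : ∀ M : Subgroup G, M.Normal → Group.IsSolvable M → M ≤ N) : Reduced (G ⧸ N) := by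
  refine ⟨not_isSolvable_quotient hns N hN, hC.map (QuotientGroup.mk'_surjective N),
    fun L hL hLs => ?_⟩
  haveI := hN
  haveI := hLs
  haveI := hL
  have hNM : N ≤ L.comap (QuotientGroup.mk' N) := fun x hx => by
    rw [mem_comap, (QuotientGroup.eq_one_iff x).mpr hx |> fun h : QuotientGroup.mk' N x = 1 => h]
    exact one_mem _
  have hMs : Group.IsSolvable ↥(L.comap (QuotientGroup.mk' N)) := by
    refine Group.isSolvable_of_ker_le_range (Subgroup.inclusion hNM)
      ((QuotientGroup.mk' N).subgroupComap L) fun x hx => ?_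
    have h1 : QuotientGroup.mk' N (x : G) = 1 := congrArg Subtype.val hx
    exact ⟨⟨x, (QuotientGroup.eq_one_iff _).mp h1⟩, Subtype.ext rfl⟩
  rw [← map_comap_eq_self_of_surjective (QuotientGroup.mk'_surjective N) L, Subgroup.map_eq_bot_iff,
    QuotientGroup.ker_mk']
  exact hmax _ inferInstance hMs

/-- An involution of `S` in no other Sylow subgroup cannot be fixed by the normalizer complement
in a reduced group. -/
theorem Reduced.false_of_fixed (hG : Reduced G)
    (IH : ∀ K : Subgroup G, K ≠ ⊤ → FixedProp K) (S : Sylow 2 G) (R : Subgroup G)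
    (hRN : R ≤ normalizer ((S : Subgroup G) : Set G))
    (hNR : normalizer ((S : Subgroup G) : Set G) ≤ (S : Subgroup G) ⊔ R) {x : G}
    (hx : orderOf x = 2) (hxS : x ∈ (S : Subgroup G)) (hxR : ∀ r ∈ R, Commute x r)
    (huniq : ∀ T : Sylow 2 G, x ∈ (T : Subgroup G) → T = S) : False := by
  haveI := Fact.mk Nat.prime_two
  have hxnc : ¬ ∀ s ∈ (S : Subgroup G), Commute x s := by
    intro hc
    obtain ⟨n, hn, hne⟩ := hG.exists_moved S hx hxS hc
    have hle : (S : Subgroup G) ⊔ R ≤ centralizer ({x} : Set G) :=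
      sup_le (fun s hs => mem_cent.mpr (hc s hs).symm) fun r hr => mem_cent.mpr (hxR r hr).symm
    exact hne (by rw [(mem_cent.mp (hle (hNR hn))).eq, mul_assoc, mul_inv_cancel, mul_one])
  obtain ⟨z, z', hzS, hz'S, hz, hz', hne, hzc, hz'c⟩ := hG.exists_two_central S
  obtain ⟨T, hTS⟩ := exists_ne_sylow hG.nonsolvable S
  obtain ⟨g, rfl⟩ := MulAction.exists_smul_eq G S T
  have hx' : orderOf (g * x * g⁻¹) = 2 := by rw [Involutions.Basic.orderOf_conj, hx]
  have hx'T := conj_mem_smul g hxS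
  have huniq' : ∀ B : Sylow 2 G, g * x * g⁻¹ ∈ (B : Subgroup G) → B = g • S := by
    intro B hB
    have h : g⁻¹ • B = S := by
      refine huniq _ (mem_smul.mpr ?_)
      rwa [inv_inv]
    rw [← h, smul_inv_smul]
  have hnconj : ¬ IsConj z (g * x * g⁻¹) := by
    rw [isConj_iff]
    rintro ⟨c, hc⟩
    have he : g⁻¹ * c * z * (g⁻¹ * c)⁻¹ = x := by
      calc g⁻¹ * c * z * (g⁻¹ * c)⁻¹ = g⁻¹ * (c * z * c⁻¹) * g := by group
        _ = x := by rw [hc]; group
    obtain ⟨n, hn, hnz⟩ :=
      hG.cycInt.exists_normalizer_conj S hz hzS hzc (g := g⁻¹ * c) (by rw [he]; exact hxS)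
    rw [he] at hnz
    exact hxnc fun s hs => hnz ▸ commute_conj_of_normalizer hn hzc hs
  obtain ⟨i, T', hi, hiS, hiT, hT'S⟩ : ∃ (i : G) (T' : Sylow 2 G), orderOf i = 2 ∧
      i ∈ (S : Subgroup G) ∧ i ∈ (T' : Subgroup G) ∧ T' ≠ S := by
    by_cases h : ∃ T' : Sylow 2 G, z ∈ (T' : Subgroup G) ∧ T' ≠ S
    · obtain ⟨T', h1, h2⟩ := h
      exact ⟨z, T', hz, hzS, h1, h2⟩
    · push Not at h
      obtain ⟨hi, hiz, hix⟩ := Involutions.Basic.middle_involution hz hx'
        (Involutions.Basic.even_orderOf_mul_of_not_isConj hz hx' hnconj)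
      obtain ⟨A, hiA, hzA⟩ := exists_sylow_pair hi hz hiz
      obtain ⟨B, hiB, hxB⟩ := exists_sylow_pair hi hx' hix
      rw [h A hzA] at hiA
      rw [huniq' B hxB] at hiB
      exact ⟨_, g • S, hi, hiA, hiB, hTS⟩
  have hns := hG.not_solvable_centralizer hT'S hi hiS hiT hx hxS hxnc
  set K := centralizer ({i} : Set G) with hK
  obtain ⟨P, hPeq, hPN⟩ := hG.exists_sylow_centralizer S hiS
  obtain ⟨Ri, hRiN, hRiodd, hNRi⟩ := exists_complement P
  let R' := Ri.map K.subtype
  have hR'N : R' ≤ normalizer ((S : Subgroup G) : Set G) := by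
    rintro _ ⟨k, hk, rfl⟩
    exact hPN k (hRiN hk)
  have hR'odd : Odd (Nat.card R') := by rwa [card_subtype]
  have hcop : (Nat.card R').Coprime (Nat.card S) :=
    (PLocal.Cores.coprime_card_of_isPGroup S.isPGroup' (Nat.coprime_two_right.mpr hR'odd)).symm
  have hM : (S : Subgroup G) ⊔ centralizer ({x} : Set G) ⊓ ((S : Subgroup G) ⊔ R') =
      (S : Subgroup G) ⊔ R' := by
    refine le_antisymm (sup_le le_sup_left inf_le_right) (sup_le le_sup_left fun a ha => ?_)
    obtain ⟨s, hs, r, hr, rfl⟩ := (Coprime.mem_sup_of_le_normalizer hRN).mp (hNR (hR'N ha))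
    refine Subgroup.mul_mem_sup hs ⟨mem_cent.mpr (hxR r hr).symm, ?_⟩
    rw [← inv_mul_cancel_left s r]
    exact Subgroup.mul_mem_sup (inv_mem hs) ha
  obtain ⟨k, hk, hle⟩ := Coprime.exists_le_conj_smul hR'N hcop
    (Or.inr (isSolvable_isPGroup S.isPGroup')) hM
  have hx1R : ∀ r ∈ R', Commute (k * x * k⁻¹) r := by
    intro r hr
    have h := mem_cent.mp (Coprime.mem_conj_smul.mp (hle hr)).1
    simpa [mul_assoc] using (h.map (MulAut.conj k).toMonoidHom).symm
  have hx1 : orderOf (k * x * k⁻¹) = 2 := by rw [Involutions.Basic.orderOf_conj, hx]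
  have hx1S : k * x * k⁻¹ ∈ (S : Subgroup G) := mul_mem (mul_mem hk hxS) (inv_mem hk)
  have hx1i : k * x * k⁻¹ ≠ i := by
    intro h
    refine hT'S ?_
    have h2 : k⁻¹ • T' = S := by
      refine huniq _ (mem_smul.mpr ?_)
      rw [inv_inv, h]
      exact hiT
    rw [← eq_inv_smul_iff.mp h2.symm]
    exact Sylow.smul_eq_iff_mem_normalizer.mpr (le_normalizer hk)
  have hiR : ∀ r ∈ R', Commute i r := fun r hr =>
    (mem_cent.mp (map_subtype_le _ hr)).symm
  obtain ⟨v, hvS, hv, hvi, hvR, hvne⟩ : ∃ v, v ∈ (S : Subgroup G) ∧ orderOf v = 2 ∧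
      Commute v i ∧ (∀ r ∈ R', Commute v r) ∧ v ≠ i := by
    by_cases hc : Commute (k * x * k⁻¹) i
    · exact ⟨_, hx1S, hx1, hc, hx1R, hx1i⟩
    · let Y := (S : Subgroup G) ⊓ centralizer (R' : Set G)
      have hiY : i ∈ Y := ⟨hiS, mem_centralizer_iff.mpr fun r hr => (hiR r hr).eq.symm⟩
      have hxY : k * x * k⁻¹ ∈ Y :=
        ⟨hx1S, mem_centralizer_iff.mpr fun r hr => (hx1R r hr).eq.symm⟩
      obtain ⟨w, hwY, hw, hwc⟩ := exists_central_involution (S.isPGroup'.to_le inf_le_left)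
        (fun h => by
          have : i ∈ (⊥ : Subgroup G) := h ▸ hiY
          rw [mem_bot] at this
          simp [this] at hi)
      refine ⟨w, hwY.1, hw, hwc i hiY,
        fun r hr => ((mem_centralizer_iff.mp hwY.2 r hr).symm : w * r = r * w), ?_⟩
      rintro rfl
      exact hc (hwc _ hxY).symm
  let V : K := ⟨v, mem_cent.mpr hvi⟩
  let I : K := ⟨i, mem_cent.mpr (Commute.refl i)⟩
  have hI : orderOf I = 2 := by rw [← Subgroup.orderOf_coe]; exact hi
  have hV : orderOf V = 2 := by rw [← Subgroup.orderOf_coe]; exact hv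
  haveI : (zpowers I).Normal := by
    refine ⟨fun a ha c => ?_⟩
    obtain ⟨j, rfl⟩ := mem_zpowers_iff.mp ha
    have hc : Commute c I := Subtype.ext (mem_cent.mp c.2).eq
    rw [(hc.zpow_right j).eq, mul_assoc, mul_inv_cancel, mul_one]
    exact zpow_mem (mem_zpowers I) j
  have hIcore : I ∈ pCore 2 K :=
    Agent.Cores.le_pCore (IsPGroup.of_card (n := 1) (by rw [Nat.card_zpowers, hI, pow_one]))
      (mem_zpowers I)
  have hVuniq : ∀ Q : Sylow 2 K, V ∈ (Q : Subgroup K) → Q = P := by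
    intro Q hQ
    obtain ⟨T2, hT2⟩ := (Q.isPGroup'.map K.subtype).exists_le_sylow
    have h2 : T2 = S := hG.cycInt.eq_of_two (hT2 ⟨I, Agent.Cores.pCore_le_sylow Q hIcore, rfl⟩)
      hiS (hT2 ⟨V, hQ, rfl⟩) hvS hi hv hvne.symm
    subst h2
    refine Sylow.ext (Q.is_maximal' P.isPGroup' ?_).symm
    rw [hPeq]
    exact fun a ha => hT2 (mem_map_of_mem _ ha)
  have hVP : V ∈ (P : Subgroup K) := by rw [hPeq]; exact hvS
  have hIP : I ∈ (P : Subgroup K) := by rw [hPeq]; exact hiS
  have hVU : V ∈ pPrimePCore 2 K := by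
    refine IH K (hG.centralizer_ne_top (fun h => by simp [h] at hi)) hns (hG.cycInt.subgroup K) P Ri
      hRiN hRiodd hNRi V hVP ?_ (fun r hr => Subtype.ext (hvR _ (mem_map_of_mem _ hr)).eq) hVuniq
    rw [mul_self_of_orderOf hV]
    exact one_mem _
  exact hvne (congrArg Subtype.val (eq_of_cyclic (isCyclic_inf_pPrimePCore (hG.cycInt.subgroup K)
    hns P) ⟨hVP, hVU⟩ ⟨hIP, PLocal.Cores.pCore_le_pPrimePCore hIcore⟩ hV hI))

theorem fixed_all : ∀ (n : ℕ) (G : Type u) [Group G] [Finite G], Nat.card G ≤ n → FixedProp G := by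
  intro n
  induction n with
  | zero => intro G _ _ h; exact absurd (Nat.le_zero.mp h) Nat.card_pos.ne'
  | succ n ih =>
    intro G _ _ hn hns hC S R hRN hRodd hNR x hxS hxx hxR huniq
    haveI := Fact.mk Nat.prime_two
    by_contra hxU
    let π := QuotientGroup.mk' (pPrimePCore 2 G)
    have hπ : Function.Surjective π := QuotientGroup.mk'_surjective _
    have hred : Reduced (G ⧸ pPrimePCore 2 G) :=
      reduced_quotient hns hC _ isSolvable_pPrimePCore
        fun M hM hMs => haveI := hM; le_pPrimePCore_of_solvable hC hns M hMs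
    have hcardle : Nat.card (G ⧸ pPrimePCore 2 G) ≤ n + 1 :=
      (Nat.card_le_card_of_surjective π hπ).trans hn
    refine hred.false_of_fixed (fun K hK => ih K ?_) (S.mapSurjective hπ) (R.map π) ?_ ?_
      (x := π x) ?_ ?_ ?_ ?_
    · have := card_lt_of_ne_top hK
      omega
    · rw [Sylow.coe_mapSurjective]
      exact (map_mono hRN).trans (le_normalizer_map _)
    · rw [Sylow.coe_mapSurjective, Counting.SylowCount.normalizer_map_mk', ← Subgroup.map_sup]
      exact map_mono hNR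
    · rw [Involutions.Basic.orderOf_two_iff, ← map_mul]
      exact ⟨(QuotientGroup.eq_one_iff _).mpr hxx, fun h => hxU ((QuotientGroup.eq_one_iff _).mp h)⟩
    · rw [Sylow.coe_mapSurjective]
      exact mem_map_of_mem _ hxS
    · rintro _ ⟨r, hr, rfl⟩
      exact (hxR r hr).map π
    · intro T hT
      obtain ⟨T₁, hT₁, hmap⟩ := exists_sylow_lift hπ T (D₀ := zpowers x)
        (S.isPGroup'.to_le ((zpowers_le).mpr hxS)) ((zpowers_le).mpr hT)
      refine Sylow.ext ?_
      rw [← hmap, huniq T₁ (hT₁ (mem_zpowers x)), Sylow.coe_mapSurjective]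

end Cfsg.Agent.ZStar.CyclicIntersections
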